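import Cfsg.Agent.ClassSquare.OrthOddCell
import Cfsg.Agent.OmegaOrbits.Basic

/-!
# The two radicals of the Siegel parabolics of `O_{2n+1}` over any finite field of odd order
-/

set_option autoImplicit false
set_option linter.unusedSectionVars false
set_option linter.unusedSimpArgs false

namespace CfsgLib.OreOmega

open Matrix CfsgLib.Spinor CfsgLib.StdForms CfsgLib.ClassSquare
open CfsgLib.ClassSquare.OddO (vec vec_inj exists_vec mat_eq_of_vec levi levi_act low low_act up up_act flip_act oddQ_vec polar_vec midRow blkA blkC mulVec_first)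

variable {F : Type*} [Field F] [Fintype F]

/-- Squares lie in `Ω`. -/
theorem sq_mem_omega {ι : Type} [Fintype ι] [DecidableEq ι] {Q : QuadraticForm F (ι → F)} (h2 : (2 : F) ≠ 0)
    (hQ : (QuadraticMap.polarBilin Q).Nondegenerate) (g : ↥(Cfsg.isometryGroup F ⇑Q)) :
    g * g ∈ Cfsg.Omega F ⇑Q := by
  obtain ⟨vs, hvs⟩ := exists_isReflProd h2 hQ g
  refine (mem_omega_iff h2 hQ (hvs.mul hvs)).2 ⟨by simp, ?_⟩
  rw [List.map_append, List.prod_append]
  exact ⟨_, rfl⟩

variable {n : ℕ}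

set_option quotPrecheck false in
local notation "O" => ↥(Cfsg.isometryGroup F ⇑(oddQ n F))
local notation "Idx" => Unit ⊕ (Fin n ⊕ Fin n)

theorem iso_ext {g h : O} (e : ∀ z x y, mat (oddQ n F) g *ᵥ vec z x y = mat (oddQ n F) h *ᵥ vec z x y) : g = h :=
  mat_ext _ (mat_eq_of_vec e)

theorem isAlt_conj (A : Matrix (Fin n) (Fin n) F) {S : Matrix (Fin n) (Fin n) F} (hS : IsAlt S) :
    IsAlt (A * S * Aᵀ) :=
  Plus.isAlt_of_quad fun x => by
    rw [← mulVec_mulVec, ← mulVec_mulVec, dotProduct_mulVec, ← mulVec_transpose, hS.quad]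

theorem isAlt_skew (b b' : Fin n → F) : IsAlt (vecMulVec b' b - vecMulVec b b') :=
  ⟨by rw [transpose_sub, transpose_vecMulVec, transpose_vecMulVec, neg_sub],
    fun i => by simp [vecMulVec_apply, mul_comm]⟩

theorem low_mul (b b' : Fin n → F) (S S' : Matrix (Fin n) (Fin n) F) (h : IsAlt S) (h' : IsAlt S') :
    (low b S h : O) * low b' S' h' =
      low (b + b') (S + S' + (vecMulVec b' b - vecMulVec b b')) ((h.add h').add (isAlt_skew b b')) := by
  refine iso_ext fun z x y => ?_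
  rw [mat_mul, ← mulVec_mulVec, low_act, low_act, low_act, OddO.vec_inj]
  refine ⟨by rw [add_dotProduct]; ring, rfl, ?_⟩
  simp only [add_mulVec, sub_mulVec, vecMulVec_mulVec, op_smul_eq_smul, add_dotProduct]
  module

theorem low_zero : (low 0 0 isAlt_zero : O) = 1 := iso_ext fun z x y => by
  rw [low_act, mat_one, one_mulVec]
  simp

theorem low_congr {b b' : Fin n → F} {S S' : Matrix (Fin n) (Fin n) F} (h : IsAlt S) (h' : IsAlt S')
    (e₁ : b = b') (e₂ : S = S') : (low b S h : O) = low b' S' h' := by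
  subst e₁ e₂; rfl

theorem low_inv (b : Fin n → F) (S : Matrix (Fin n) (Fin n) F) (h : IsAlt S) :
    (low b S h : O)⁻¹ = low (-b) (-S) (Plus.isAlt_neg h) := by
  refine inv_eq_of_mul_eq_one_right ?_
  rw [low_mul, ← low_zero]
  refine low_congr _ _ (add_neg_cancel b) ?_
  simp [neg_vecMulVec, vecMulVec_neg]

theorem low_inj {b b' : Fin n → F} {S S' : Matrix (Fin n) (Fin n) F} {h : IsAlt S} {h' : IsAlt S'}
    (e : (low b S h : O) = low b' S' h') : b = b' ∧ S = S' := by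
  have key : ∀ x, b ⬝ᵥ x = b' ⬝ᵥ x ∧ S *ᵥ x - (b ⬝ᵥ x) • b = S' *ᵥ x - (b' ⬝ᵥ x) • b' := fun x => by
    have := congrArg (fun g => mat (oddQ n F) g *ᵥ vec 0 x 0) e
    simp only [low_act, OddO.vec_inj] at this
    refine ⟨by simpa using this.1, ?_⟩
    simpa using this.2.2
  have hb : b = b' := dotProduct_eq _ _ fun x => (key x).1
  subst hb
  exact ⟨rfl, Matrix.ext_iff_mulVec.2 fun x => by simpa using (key x).2⟩

theorem levi_conj_low (A : GL (Fin n) F) (b : Fin n → F) (S : Matrix (Fin n) (Fin n) F) (h : IsAlt S) :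
    levi A * (low b S h : O) * (levi A)⁻¹ =
      low ((A⁻¹).1ᵀ *ᵥ b) ((A⁻¹).1ᵀ * S * ((A⁻¹).1ᵀ)ᵀ) (isAlt_conj _ h) := by
  refine iso_ext fun z x y => ?_
  have hA : ∀ y : Fin n → F, (A⁻¹).1ᵀ *ᵥ (A.1ᵀ *ᵥ y) = y := fun y => by
    rw [mulVec_mulVec, ← transpose_mul, ← Units.val_mul, mul_inv_cancel, Units.val_one, transpose_one, one_mulVec]
  have hA' : A.1 *ᵥ ((A⁻¹).1 *ᵥ x) = x := by
    rw [mulVec_mulVec, ← Units.val_mul, mul_inv_cancel, Units.val_one, one_mulVec]
  have hdot : b ⬝ᵥ (A⁻¹).1 *ᵥ x = ((A⁻¹).1ᵀ *ᵥ b) ⬝ᵥ x := by rw [dotProduct_mulVec, mulVec_transpose]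
  rw [← map_inv, mat_mul, mat_mul, ← mulVec_mulVec, ← mulVec_mulVec, levi_act, low_act, levi_act, low_act, OddO.vec_inj,
    inv_inv, transpose_transpose, hA', hdot]
  refine ⟨rfl, rfl, ?_⟩
  rw [mulVec_sub, mulVec_add, mulVec_sub, mulVec_smul, mulVec_smul, hA, ← mulVec_mulVec, ← mulVec_mulVec]

theorem up_eq_flip (b : Fin n → F) (S : Matrix (Fin n) (Fin n) F) (h : IsAlt S) :
    (up b S h : O) = OddO.flip * low b S h * OddO.flip := iso_ext fun z x y => by
  rw [mat_mul, mat_mul, ← mulVec_mulVec, ← mulVec_mulVec, flip_act, low_act, flip_act, up_act]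

theorem up_mul (b b' : Fin n → F) (S S' : Matrix (Fin n) (Fin n) F) (h : IsAlt S) (h' : IsAlt S') :
    (up b S h : O) * up b' S' h' =
      up (b + b') (S + S' + (vecMulVec b' b - vecMulVec b b')) ((h.add h').add (isAlt_skew b b')) := by
  have hf : (OddO.flip : O) * OddO.flip = 1 := by
    conv_lhs => arg 1; rw [← OddO.flip_inv]
    exact inv_mul_cancel _
  rw [up_eq_flip, up_eq_flip, up_eq_flip, ← low_mul b b' S S' h h']
  calc OddO.flip * low b S h * OddO.flip * (OddO.flip * low b' S' h' * OddO.flip)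
      = OddO.flip * low b S h * (OddO.flip * OddO.flip) * low b' S' h' * OddO.flip := by group
    _ = _ := by rw [hf, mul_one]; group

theorem up_inj {b b' : Fin n → F} {S S' : Matrix (Fin n) (Fin n) F} {h : IsAlt S} {h' : IsAlt S'}
    (e : (up b S h : O) = up b' S' h') : b = b' ∧ S = S' := by
  rw [up_eq_flip, up_eq_flip] at e
  exact low_inj (mul_left_cancel (mul_right_cancel e))

theorem levi_conj_up (A : GL (Fin n) F) (b : Fin n → F) (S : Matrix (Fin n) (Fin n) F) (h : IsAlt S) :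
    levi A * (up b S h : O) * (levi A)⁻¹ = up (A.1 *ᵥ b) (A.1 * S * (A.1)ᵀ) (isAlt_conj _ h) := by
  refine iso_ext fun z x y => ?_
  have hA : (A⁻¹).1ᵀ *ᵥ (A.1ᵀ *ᵥ y) = y := by
    rw [mulVec_mulVec, ← transpose_mul, ← Units.val_mul, mul_inv_cancel, Units.val_one, transpose_one, one_mulVec]
  have hA' : A.1 *ᵥ ((A⁻¹).1 *ᵥ x) = x := by
    rw [mulVec_mulVec, ← Units.val_mul, mul_inv_cancel, Units.val_one, one_mulVec]
  have hdot : b ⬝ᵥ A.1ᵀ *ᵥ y = (A.1 *ᵥ b) ⬝ᵥ y := by rw [dotProduct_mulVec, vecMul_transpose]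
  rw [← map_inv, mat_mul, mat_mul, ← mulVec_mulVec, ← mulVec_mulVec, levi_act, up_act, levi_act, up_act, OddO.vec_inj,
    inv_inv, hA, hdot]
  refine ⟨rfl, ?_, rfl⟩
  rw [mulVec_sub, mulVec_add, mulVec_sub, mulVec_smul, mulVec_smul, hA', ← mulVec_mulVec, ← mulVec_mulVec]

theorem low_mem (h2 : (2 : F) ≠ 0) (b : Fin n → F) (S : Matrix (Fin n) (Fin n) F) (h : IsAlt S) :
    (low b S h : O) ∈ Cfsg.Omega F ⇑(oddQ n F) := by
  have hS : IsAlt ((2 : F)⁻¹ • S) := ⟨by rw [transpose_smul, h.1, smul_neg], fun i => by simp [h.2 i]⟩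
  have e : (low b S h : O) = low ((2 : F)⁻¹ • b) _ hS * low ((2 : F)⁻¹ • b) _ hS := by
    rw [low_mul]
    refine low_congr _ _ ?_ ?_
    · rw [← add_smul, ← two_mul, mul_inv_cancel₀ h2, one_smul]
    · rw [sub_self, add_zero, ← add_smul, ← two_mul, mul_inv_cancel₀ h2, one_smul]
  rw [e]
  exact sq_mem_omega h2 (oddQ_nondegenerate h2 n) _

theorem up_mem (h2 : (2 : F) ≠ 0) (b : Fin n → F) (S : Matrix (Fin n) (Fin n) F) (h : IsAlt S) :
    (up b S h : O) ∈ Cfsg.Omega F ⇑(oddQ n F) := by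
  rw [up_eq_flip]
  have := (inferInstance : (commutator O).Normal).conj_mem _ (low_mem h2 b S h) OddO.flip
  rwa [OddO.flip_inv] at this

end CfsgLib.OreOmega
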