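import Cfsg.Agent.OreOmega.Basic

/-!
# Factorisation in the big cell of the Siegel parabolic
-/

set_option autoImplicit false
set_option linter.unusedSectionVars false
set_option linter.unusedSimpArgs false

namespace CfsgLib.OreOmega

open Matrix CfsgLib.Spinor CfsgLib.StdForms CfsgLib.ClassSquare
open CfsgLib.ClassSquare.OddO (exists_vec mat_eq_of_vec levi levi_act low low_act up up_act oddQ_vec polar_vec midRow blkA blkC)

variable {F : Type*} [Field F] [Fintype F] {n : ℕ}

set_option quotPrecheck false in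
local notation "O" => ↥(Cfsg.isometryGroup F ⇑(oddQ n F))
local notation "Idx" => Unit ⊕ (Fin n ⊕ Fin n)
local notation "Mat" => Matrix Idx Idx F

/-- An element fixing the first half pointwise. -/
theorem exists_of_fix (h2 : (2 : F) ≠ 0) (m : O) (hdet : (mat (oddQ n F) m).det = 1)
    (hfix : ∀ x, mat (oddQ n F) m *ᵥ OddO.vec 0 x 0 = OddO.vec 0 x 0) :
    ∃ (b : Fin n → F) (S : Matrix (Fin n) (Fin n) F) (h : IsAlt S), m = up b S h := by
  classical
  set M := mat (oddQ n F) m with hM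
  have hy : ∀ z x y, ∃ z' x', M *ᵥ OddO.vec z x y = OddO.vec z' x' y := fun z x y => by
    obtain ⟨z', x', y', e⟩ := exists_vec (M *ᵥ OddO.vec z x y)
    refine ⟨z', x', e.trans (OddO.vec_inj.2 ⟨rfl, rfl, dotProduct_eq _ _ fun w => ?_⟩)⟩
    have := polar_mulVec (oddQ n F) m (OddO.vec 0 w 0) (OddO.vec z x y)
    rw [← hM, hfix, e, polar_vec, polar_vec] at this
    simpa [dotProduct_comm w] using this
  obtain ⟨a, ξ, hz⟩ := hy 1 0 0
  choose β T hT using fun y => hy 0 0 y
  let β' : Fin n → F := fun j => β (Pi.single j 1)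
  let T' : Matrix (Fin n) (Fin n) F := Matrix.of fun i j => T (Pi.single j 1) i
  have hlin : ∀ y, M *ᵥ OddO.vec 0 0 y = OddO.vec (β' ⬝ᵥ y) (T' *ᵥ y) y := fun y => by
    let L : (Fin n → F) →ₗ[F] (Idx → F) :=
      { toFun := fun y => M *ᵥ OddO.vec 0 0 y
        map_add' := fun y y' => by
          rw [← mulVec_add]; congr 1; funext j; rcases j with u | j | j <;> simp [OddO.vec]
        map_smul' := fun c y => by
          rw [RingHom.id_apply, ← mulVec_smul]; congr 1; funext j; rcases j with u | j | j <;> simp [OddO.vec] }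
    let L' : (Fin n → F) →ₗ[F] (Idx → F) :=
      { toFun := fun y => OddO.vec (β' ⬝ᵥ y) (T' *ᵥ y) y
        map_add' := fun y y' => by
          funext j; rcases j with u | j | j <;> simp [OddO.vec, dotProduct_add, mulVec_add]
        map_smul' := fun c y => by
          funext j; rcases j with u | j | j <;> simp [OddO.vec, mulVec_smul] }
    refine LinearMap.congr_fun (f := L) (g := L') ((Pi.basisFun F (Fin n)).ext fun j => ?_) y
    show M *ᵥ OddO.vec 0 0 (Pi.basisFun F (Fin n) j) = OddO.vec _ _ _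
    rw [Pi.basisFun_apply, hT, OddO.vec_inj]
    refine ⟨by simp [β'], ?_, rfl⟩
    rw [mulVec_single_one]
    rfl
  have hgen : ∀ z x y, M *ᵥ OddO.vec z x y = OddO.vec (z * a + β' ⬝ᵥ y) (x + z • ξ + T' *ᵥ y) y := fun z x y => by
    have e : OddO.vec z x y = z • OddO.vec 1 0 0 + OddO.vec 0 x 0 + OddO.vec 0 0 y := by
      funext j; rcases j with u | j | j <;> simp [OddO.vec]
    rw [e, mulVec_add, mulVec_add, mulVec_smul, hz, hfix, hlin]
    funext j
    rcases j with u | j | j <;> simp [OddO.vec]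
    ring
  have hq := fun z y => quad_mulVec (oddQ n F) m (OddO.vec z 0 y)
  simp only [← hM, hgen, oddQ_vec, zero_add, zero_dotProduct, add_zero] at hq
  have hS : IsAlt (T' + vecMulVec β' β') := Plus.isAlt_of_quad fun y => by
    have := hq 0 y
    simp only [zero_mul, zero_add, zero_smul] at this
    rw [add_mulVec, vecMulVec_mulVec, op_smul_eq_smul, dotProduct_add, dotProduct_smul, smul_eq_mul,
      dotProduct_comm y (T' *ᵥ y), dotProduct_comm y β']
    linear_combination this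
  set S := T' + vecMulVec β' β' with hSdef
  have ha : a * a = 1 := by simpa using hq 1 0
  have hξ : ∀ y, ξ ⬝ᵥ y = -(2 * a * (β' ⬝ᵥ y)) := fun y => by
    have h1 := hq 1 y
    have h0 := hq 0 y
    simp only [add_dotProduct, smul_dotProduct, smul_eq_mul, one_mul, zero_mul, zero_add, zero_smul] at h1 h0
    linear_combination h1 - h0 - ha
  let D : Mat := diagonal (Sum.elim (fun _ => a) fun _ => 1)
  have hfac : M = OddO.upMat β' S * D := mat_eq_of_vec fun z x y => by
    have hD : D *ᵥ OddO.vec z x y = OddO.vec (a * z) x y := by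
      funext j; rcases j with u | j | j <;> simp [D, OddO.vec, mulVec_diagonal]
    rw [hgen, ← mulVec_mulVec, hD, OddO.upMat_act, OddO.vec_inj]
    refine ⟨by ring, ?_, rfl⟩
    have hξ' : ξ = (-(2 * a)) • β' := dotProduct_eq _ _ fun y => by
      rw [hξ, smul_dotProduct, smul_eq_mul]; ring
    rw [hξ', hSdef, add_mulVec, vecMulVec_mulVec, op_smul_eq_smul]
    module
  have hdu : (OddO.upMat β' S).det = 1 := OddO.det_eq_one_of_mem (g := up β' S hS) (up_mem h2 β' S hS)
  have ha1 : a = 1 := by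
    rw [hfac, det_mul, hdu, one_mul, det_diagonal, Fintype.prod_sum_type] at hdet
    simpa using hdet
  refine ⟨β', S, hS, mat_ext _ ?_⟩
  show M = OddO.upMat β' S
  rw [hfac, show D = 1 from by
    rw [← diagonal_one]; refine congrArg diagonal (funext fun i => ?_); rcases i with u | i <;> simp [ha1], Matrix.mul_one]

/-- The big cell of the Siegel parabolic. -/
theorem exists_factor (h2 : (2 : F) ≠ 0) (g : O) (hg : g ∈ Cfsg.Omega F ⇑(oddQ n F))
    (hA : (blkA (mat (oddQ n F) g)).det ≠ 0) :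
    ∃ (Au : GL (Fin n) F) (b₁ b₂ : Fin n → F) (S₁ S₂ : Matrix (Fin n) (Fin n) F) (h₁ : IsAlt S₁) (h₂ : IsAlt S₂),
      Au.1 = blkA (mat (oddQ n F) g) ∧ g = low b₁ S₁ h₁ * levi Au * up b₂ S₂ h₂ := by
  classical
  set A := blkA (mat (oddQ n F) g)
  set C := blkC (mat (oddQ n F) g)
  set c₀ := midRow (mat (oddQ n F) g)
  have hu : IsUnit A.det := isUnit_iff_ne_zero.2 hA
  set m₀ := c₀ ᵥ* A⁻¹ with hm₀
  have h₁ : IsAlt (C * A⁻¹ + vecMulVec m₀ m₀) := Plus.isAlt_of_quad fun x => by
    have := OddO.quad_first g (A⁻¹ *ᵥ x)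
    rw [mulVec_inv_cancel hA, mulVec_mulVec, dotProduct_mulVec c₀, ← hm₀] at this
    rw [add_mulVec, vecMulVec_mulVec, op_smul_eq_smul, dotProduct_add, dotProduct_smul, smul_eq_mul,
      dotProduct_comm x m₀]
    linear_combination this
  let Au : GL (Fin n) F := ⟨A, A⁻¹, Matrix.mul_nonsing_inv A hu, Matrix.nonsing_inv_mul A hu⟩
  set v := low m₀ _ h₁ * levi Au with hv
  have hvfirst : ∀ x, mat (oddQ n F) v *ᵥ OddO.vec 0 x 0 = mat (oddQ n F) g *ᵥ OddO.vec 0 x 0 := fun x => by
    rw [hv, mat_mul, ← mulVec_mulVec, levi_act, low_act, OddO.mulVec_first, OddO.vec_inj]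
    have hmA : m₀ ⬝ᵥ (Au.1 *ᵥ x) = c₀ ⬝ᵥ x := by
      rw [dotProduct_mulVec, hm₀, vecMul_vecMul]
      show (c₀ ᵥ* (A⁻¹ * A)) ⬝ᵥ x = _
      rw [Matrix.nonsing_inv_mul A hu, vecMul_one]
    refine ⟨by simpa using hmA, rfl, ?_⟩
    rw [hmA, mulVec_zero, add_mulVec, vecMulVec_mulVec, op_smul_eq_smul, hmA, mulVec_mulVec]
    show _ = C *ᵥ x
    rw [show C * A⁻¹ * Au.1 = C from by rw [Matrix.mul_assoc]; show C * (A⁻¹ * A) = C; rw [Matrix.nonsing_inv_mul A hu, Matrix.mul_one]]
    module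
  set m := v⁻¹ * g with hm
  have hfix : ∀ x, mat (oddQ n F) m *ᵥ OddO.vec 0 x 0 = OddO.vec 0 x 0 := fun x => OddO.mulVec_injective' v (by
    rw [hvfirst x, mulVec_mulVec, ← mat_mul, hm, mul_inv_cancel_left])
  have hlow : (mat (oddQ n F) (low m₀ _ h₁)).det = 1 := OddO.det_eq_one_of_mem (low_mem h2 _ _ h₁)
  have hdet : (mat (oddQ n F) m).det = 1 := by
    have e := OddO.det_eq_one_of_mem hg
    rw [show g = v * m by rw [hm, mul_inv_cancel_left], mat_mul, det_mul, hv, mat_mul, det_mul, hlow, OddO.det_levi,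
      one_mul, one_mul] at e
    exact e
  obtain ⟨b₂, S₂, h₂, hm2⟩ := exists_of_fix h2 m hdet hfix
  have hg' : g = low m₀ _ h₁ * levi Au * up b₂ S₂ h₂ := by
    rw [← hm2, ← hv, hm, mul_inv_cancel_left]
  exact ⟨Au, m₀, b₂, _, S₂, h₁, h₂, rfl, hg'⟩

end CfsgLib.OreOmega
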