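import Cfsg.Agent.OreOmega.Cell
import Cfsg.Agent.OreGL.Good
import Cfsg.Agent.ClassSquare.Abstract

/-!
# A good big-cell block makes an element of `Ω_{2n+1}` a commutator
-/

set_option autoImplicit false
set_option linter.unusedSectionVars false
set_option linter.unusedSimpArgs false

namespace CfsgLib.OreOmega

open Matrix CfsgLib.Spinor CfsgLib.StdForms CfsgLib.ClassSquare
open CfsgLib.ClassSquare.OddO (levi low up blkA)

variable {F : Type*} [Field F] [Fintype F] {n : ℕ}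

set_option quotPrecheck false in
local notation "O" => ↥(Cfsg.isometryGroup F ⇑(oddQ n F))
set_option quotPrecheck false in
local notation "ΩO" => ↥(Cfsg.Omega F ⇑(oddQ n F))

theorem up_zero : (up 0 0 isAlt_zero : O) = 1 := iso_ext fun z x y => by
  rw [OddO.up_act, mat_one, one_mulVec]
  simp

/-- The lower radical inside `Ω`. -/
def loSub (h2 : (2 : F) ≠ 0) : Subgroup ΩO where
  carrier := {x | ∃ b S, ∃ h : IsAlt S, (x : O) = low b S h}
  one_mem' := ⟨0, 0, isAlt_zero, low_zero.symm⟩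
  mul_mem' := by
    rintro x y ⟨b, S, h, e⟩ ⟨b', S', h', e'⟩
    exact ⟨_, _, _, by rw [Subgroup.coe_mul, e, e', low_mul]⟩
  inv_mem' := by
    rintro x ⟨b, S, h, e⟩
    exact ⟨_, _, _, by rw [Subgroup.coe_inv, e, low_inv]⟩

/-- The upper radical inside `Ω`. -/
def upSub (h2 : (2 : F) ≠ 0) : Subgroup ΩO where
  carrier := {x | ∃ b S, ∃ h : IsAlt S, (x : O) = up b S h}
  one_mem' := ⟨0, 0, isAlt_zero, up_zero.symm⟩
  mul_mem' := by
    rintro x y ⟨b, S, h, e⟩ ⟨b', S', h', e'⟩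
    exact ⟨_, _, _, by rw [Subgroup.coe_mul, e, e', up_mul]⟩
  inv_mem' := by
    rintro x ⟨b, S, h, e⟩
    exact ⟨_, _, _, by rw [Subgroup.coe_inv, e, OddO.up_inv]⟩

theorem eq_zero_of_mulVec {R : Matrix (Fin n) (Fin n) F} (h : (R - 1).det ≠ 0) {b : Fin n → F} (e : R *ᵥ b = b) :
    b = 0 :=
  Matrix.eq_zero_of_mulVec_eq_zero h (by rw [sub_mulVec, one_mulVec, e, sub_self])

/-- An element with a good block in the big cell is a commutator. -/
theorem isComm_of_blk (h2 : (2 : F) ≠ 0) (hn : 3 ≤ n) (g : ΩO)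
    (hdet : (blkA (mat (oddQ n F) g.1)).det = 1) (hfac : OreGL.Factors (blkA (mat (oddQ n F) g.1))) :
    ∃ a b : ΩO, g = a * b * a⁻¹ * b⁻¹ := by
  obtain ⟨Au, b₁, b₂, S₁, S₂, h₁, h₂', hAu, hg⟩ :=
    exists_factor h2 g.1 g.2 (by rw [hdet]; exact one_ne_zero)
  obtain ⟨R, hgood, hR0, hRsq, hsurj, P, P', hPP, hPP', hsim⟩ := hfac
  -- normalise the conjugator
  have hP0 : P.det ≠ 0 := fun h => by simpa [h] using congrArg Matrix.det hPP
  obtain ⟨C, hC, hCR⟩ := hsurj P.det⁻¹ (inv_ne_zero hP0)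
  let Ru : GL (Fin n) F := Matrix.GeneralLinearGroup.mkOfDetNeZero R hR0
  have hS1 : (P * C).det = 1 := by rw [det_mul, hC, mul_inv_cancel₀ hP0]
  let Su : GL (Fin n) F := Matrix.GeneralLinearGroup.mkOfDetNeZero (P * C) (by rw [hS1]; exact one_ne_zero)
  have hkey : Au * (Ru * Su) = Su * Ru := by
    refine Units.ext ?_
    show Au.1 * (R * (P * C)) = P * C * R
    rw [hAu, ← Matrix.mul_assoc _ R, hsim]
    simp only [Matrix.mul_assoc]
    rw [← Matrix.mul_assoc P' P, hPP', Matrix.one_mul, hCR]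
  let h : ΩO := ⟨levi Ru, OddO.levi_mem_of_isSquare hn Ru hRsq⟩
  let s : ΩO := ⟨levi Su, OddO.levi_mem_of_isSquare hn Su (by
    show IsSquare (P * C).det
    rw [hS1]
    exact ⟨1, (one_mul 1).symm⟩)⟩
  let L : ΩO := ⟨low b₁ S₁ h₁, low_mem h2 _ _ h₁⟩
  let U : ΩO := ⟨up b₂ S₂ h₂', up_mem h2 _ _ h₂'⟩
  have hg' : g = L * (s * h * s⁻¹ * h⁻¹) * U := by
    refine Subtype.ext ?_
    show g.1 = low b₁ S₁ h₁ * (levi Su * levi Ru * (levi Su)⁻¹ * (levi Ru)⁻¹) * up b₂ S₂ h₂'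
    rw [hg, ← map_inv, ← map_inv, ← map_mul, ← map_mul, ← map_mul]
    congr 3
    rw [← hkey]
    group
  have hlo : ∀ x ∈ loSub (n := n) h2, h * x * h⁻¹ ∈ loSub (n := n) h2 := by
    rintro x ⟨b, S, hS, e⟩
    exact ⟨_, _, _, by rw [Subgroup.coe_mul, Subgroup.coe_mul, Subgroup.coe_inv, e, levi_conj_low]⟩
  have hup : ∀ x ∈ upSub (n := n) h2, h⁻¹ * x * h⁻¹⁻¹ ∈ upSub (n := n) h2 := by
    rintro x ⟨b, S, hS, e⟩
    refine ⟨(Ru⁻¹).1 *ᵥ b, _, isAlt_conj (Ru⁻¹).1 hS, ?_⟩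
    rw [Subgroup.coe_mul, Subgroup.coe_mul, Subgroup.coe_inv, Subgroup.coe_inv, e]
    show (levi Ru)⁻¹ * up b S hS * (levi Ru)⁻¹⁻¹ = _
    rw [← map_inv, levi_conj_up]
  have hfixlo : ∀ x ∈ loSub (n := n) h2, h * x = x * h → x = 1 := by
    rintro x ⟨b, S, hS, e⟩ hc
    have hc' : levi Ru * (x : O) * (levi Ru)⁻¹ = x := by
      have := congrArg Subtype.val (show h * x * h⁻¹ = x by rw [hc, mul_inv_cancel_right])
      simpa using this
    rw [e, levi_conj_low] at hc'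
    obtain ⟨eb, eS⟩ := low_inj hc'
    rw [transpose_transpose] at eS
    have hRR : R * (Ru⁻¹).1 = 1 := by
      show Ru.1 * (Ru⁻¹).1 = 1
      rw [← Units.val_mul, mul_inv_cancel, Units.val_one]
    have hRR' : (Ru⁻¹).1 * R = 1 := mul_eq_one_comm.1 hRR
    have hb : b = 0 := by
      refine eq_zero_of_mulVec (R := Rᵀ) ?_ ?_
      · rw [← transpose_one, ← transpose_sub, det_transpose]
        exact hgood.1
      · conv_lhs => rw [← eb]
        rw [mulVec_mulVec, ← transpose_mul, hRR', transpose_one, one_mulVec]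
    have hS0 : S = 0 := by
      refine hgood.2.2 S hS.1 ?_
      calc Rᵀ * S * R = Rᵀ * ((Ru⁻¹).1ᵀ * S * (Ru⁻¹).1) * R := by rw [eS]
        _ = ((Ru⁻¹).1 * R)ᵀ * S * ((Ru⁻¹).1 * R) := by rw [transpose_mul]; simp only [Matrix.mul_assoc]
        _ = S := by rw [hRR', transpose_one, Matrix.one_mul, Matrix.mul_one]
    refine Subtype.ext ?_
    rw [e, Subgroup.coe_one, ← low_zero]
    exact low_congr _ _ hb hS0
  have hfixup : ∀ x ∈ upSub (n := n) h2, h⁻¹ * x = x * h⁻¹ → x = 1 := by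
    rintro x ⟨b, S, hS, e⟩ hc
    have hc' : levi Ru * (x : O) * (levi Ru)⁻¹ = x := by
      have := congrArg Subtype.val (show h * x * h⁻¹ = x by rw [mul_assoc, ← hc, mul_inv_cancel_left])
      simpa using this
    rw [e, levi_conj_up] at hc'
    obtain ⟨eb, eS⟩ := up_inj hc'
    have hb : b = 0 := eq_zero_of_mulVec hgood.1 eb
    have hS0 : S = 0 := hgood.2.1 S hS.1 eS
    refine Subtype.ext ?_
    subst hb hS0
    rw [e, Subgroup.coe_one, ← up_zero]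
  obtain ⟨b₁', S₁', hS₁', hL'⟩ : ∃ b S, ∃ hS : IsAlt S, ((s⁻¹ * L * s : ΩO) : O) = low b S hS := by
    refine ⟨((Su⁻¹)⁻¹).1ᵀ *ᵥ b₁, _, isAlt_conj ((Su⁻¹)⁻¹).1ᵀ h₁, ?_⟩
    show (levi Su)⁻¹ * low b₁ S₁ h₁ * levi Su = _
    rw [← levi_conj_low, map_inv, inv_inv]
  have hLmem : s⁻¹ * L * s ∈ loSub (n := n) h2 := ⟨_, _, _, hL'⟩
  have hUmem : U ∈ upSub (n := n) h2 := ⟨b₂, S₂, h₂', rfl⟩
  obtain ⟨x, hx⟩ := isConj_iff.1 (ClassSquare.absorb (loSub (n := n) h2) h hlo hfixlo hLmem).1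
  obtain ⟨y, hy⟩ := isConj_iff.1 (ClassSquare.absorb (upSub (n := n) h2) h⁻¹ hup hfixup hUmem).2
  refine ⟨s * x * h * (s * x)⁻¹, y * (s * x)⁻¹, ?_⟩
  calc g = s * ((s⁻¹ * L * s) * h) * s⁻¹ * (h⁻¹ * U) := by rw [hg']; group
    _ = s * (x * h * x⁻¹) * s⁻¹ * (y * h⁻¹ * y⁻¹) := by rw [hx, hy]
    _ = _ := by group

end CfsgLib.OreOmega
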