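import Cfsg.Agent.OreOmega.Transport

/-!
# A conjugate of every element of `Ω_{2n+1}` has a block of determinant one
-/

set_option autoImplicit false
set_option linter.unusedSectionVars false
set_option linter.unusedSimpArgs false

namespace CfsgLib.OreOmega

open Matrix CfsgLib.Spinor CfsgLib.StdForms CfsgLib.OreOrth
open CfsgLib.ClassSquare.OddO (blkA)

variable {F : Type*} [Field F] [Fintype F]

section General

variable {ι : Type} [Fintype ι] [DecidableEq ι] {Q : QuadraticForm F (ι → F)}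

theorem lo_mem (h2 : (2 : F) ≠ 0) (hQ : (QuadraticMap.polarBilin Q).Nondegenerate) (x : ι → F) :
    OreOrth.lo Q x ∈ Cfsg.Omega F ⇑(extQ Q) := by
  rw [show x = (2 : F)⁻¹ • x + (2 : F)⁻¹ • x by rw [← add_smul, ← two_mul, mul_inv_cancel₀ h2, one_smul],
    ← lo_mul]
  exact sq_mem_omega h2 (extQ_nondegenerate Q hQ) _

theorem up_mem' (h2 : (2 : F) ≠ 0) (hQ : (QuadraticMap.polarBilin Q).Nondegenerate) (x : ι → F) :
    OreOrth.up Q x ∈ Cfsg.Omega F ⇑(extQ Q) := by
  rw [show x = (2 : F)⁻¹ • x + (2 : F)⁻¹ • x by rw [← add_smul, ← two_mul, mul_inv_cancel₀ h2, one_smul],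
    ← OreOrth.up_mul]
  exact sq_mem_omega h2 (extQ_nondegenerate Q hQ) _

theorem emb_mem_iff (h2 : (2 : F) ≠ 0) (hQ : (QuadraticMap.polarBilin Q).Nondegenerate)
    (g : ↥(Cfsg.isometryGroup F ⇑Q)) :
    emb Q g ∈ Cfsg.Omega F ⇑(extQ Q) ↔ g ∈ Cfsg.Omega F ⇑Q := by
  obtain ⟨vs, hvs⟩ := exists_isReflProd h2 hQ g
  rw [mem_omega_iff h2 (extQ_nondegenerate Q hQ) (isReflProd_emb hvs), mem_omega_iff h2 hQ hvs,
    List.length_map, extQ_map_prod]

/-- Scalar isometries of determinant one are trivial in odd dimension. -/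
theorem eq_one_of_scalar {z : ι → F} (hz : Q z ≠ 0) (hodd : Odd (Fintype.card ι)) {g : ↥(Cfsg.isometryGroup F ⇑Q)}
    (hdet : (mat Q g).det = 1) {c : F} (h : mat Q g = c • 1) : g = 1 := by
  refine mat_ext Q ?_
  have hcc : c * c = 1 := by
    have := quad_mulVec Q g z
    rw [h, smul_mulVec, one_mulVec, QuadraticMap.map_smul, smul_eq_mul] at this
    exact mul_right_cancel₀ hz (this.trans (one_mul _).symm)
  rw [h, det_smul, det_one, mul_one] at hdet
  obtain ⟨j, hj⟩ := hodd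
  rw [hj, pow_succ, pow_mul, sq, hcc, one_pow, one_mul] at hdet
  rw [h, hdet, one_smul, mat_one]

/-- For an element of `Ω` of a plane above a line, the moved coefficient is minus a square. -/
theorem isSquare_coeff (h2 : (2 : F) ≠ 0) (hQ : (QuadraticMap.polarBilin Q).Nondegenerate)
    (hc : Fintype.card ι = 1) {z : ι → F} (hz : Q z = 1) {g : ↥(Cfsg.isometryGroup F ⇑(extQ Q))}
    (hg : g ∈ Cfsg.Omega F ⇑(extQ Q)) {α β : F} {x₀ : ι → F}
    (hgv : mat (extQ Q) g *ᵥ mk 1 0 0 = mk α β x₀) (hβ : β ≠ 0) : IsSquare (-β) := by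
  have hE := extQ_nondegenerate Q hQ
  set d := mk (α - 1) β x₀ with hd
  have hsing : α * β + Q x₀ = 0 := by
    have h := quad_mulVec (extQ Q) g (mk 1 0 0)
    rw [hgv] at h
    simpa using h
  have hqd : extQ Q d = -β := by rw [hd, extQ_mk]; linear_combination hsing
  have hqd0 : extQ Q d ≠ 0 := by rw [hqd]; exact neg_ne_zero.2 hβ
  set h' := reflIso (extQ Q) d hqd0 * g with hh'
  have hfix : mat (extQ Q) h' *ᵥ mk 1 0 0 = mk 1 (0 : F) (0 : ι → F) := by
    rw [hh', mat_mul, ← mulVec_mulVec, hgv, mat_reflIso, reflectionMatrix_mulVec, refl_apply, hqd, hd, polar_mk,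
      polar_self', show (α - 1) * β + β * α + 2 * Q x₀ = -β by linear_combination 2 * hsing,
      inv_mul_cancel₀ (neg_ne_zero.2 hβ), one_smul, mk_sub]
    simp
  obtain ⟨-, c, y, hcy⟩ := exists_decomp Q hfix
  rw [lo_zero, one_mul] at hcy
  have hge : reflIso (extQ Q) d hqd0 * emb Q c ∈ Cfsg.Omega F ⇑(extQ Q) := by
    have e : reflIso (extQ Q) d hqd0 * emb Q c = g * (OreOrth.up Q y)⁻¹ := by
      have hsq : reflIso (extQ Q) d hqd0 * reflIso (extQ Q) d hqd0 = 1 :=
        mat_ext _ (by rw [mat_mul, mat_reflIso, reflectionMatrix_mul_self _ hqd0, mat_one])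
      calc reflIso (extQ Q) d hqd0 * emb Q c = reflIso (extQ Q) d hqd0 * h' * (OreOrth.up Q y)⁻¹ := by rw [hcy]; group
        _ = _ := by rw [hh', ← mul_assoc (reflIso (extQ Q) d hqd0), hsq, one_mul]
    rw [e]
    exact Subgroup.mul_mem _ hg (Subgroup.inv_mem _ (up_mem' h2 hQ y))
  haveI : Subsingleton ι := Fintype.card_le_one_iff_subsingleton.1 hc.le
  obtain ⟨i⟩ : Nonempty ι := Fintype.card_pos_iff.1 (by omega)
  have hz0 : z ≠ 0 := fun h => one_ne_zero (α := F) (by rw [← hz, h, QuadraticMap.map_zero])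
  have hline : ∀ w : ι → F, ∃ s : F, w = s • z := fun w => by
    have hzi : z i ≠ 0 := fun h => hz0 (funext fun j => by rw [Subsingleton.elim j i]; simpa using h)
    exact ⟨w i / z i, funext fun j => by rw [Subsingleton.elim j i]; simp [hzi]⟩
  obtain ⟨s, hs⟩ := hline (mat Q c *ᵥ z)
  have hss : s = 1 ∨ s = -1 := by
    have := quad_mulVec Q c z
    rw [hs, QuadraticMap.map_smul, hz, smul_eq_mul, mul_one] at this
    exact mul_self_eq_one_iff.1 this
  rcases hss with rfl | rfl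
  · -- the reflection alone is not in `Ω`
    have hc1 : c = 1 := mat_ext Q (Matrix.ext_iff_mulVec.2 fun w => by
      obtain ⟨t, rfl⟩ := hline w
      rw [mulVec_smul, hs, one_smul, mat_one, one_mulVec])
    rw [hc1, map_one, mul_one] at hge
    have := ((mem_omega_iff h2 hE (IsReflProd.reflIso d hqd0)).1 hge).1
    simp at this
  · have hz1 : Q z ≠ 0 := by rw [hz]; exact one_ne_zero
    have hc1 : c = reflIso Q z hz1 := mat_ext Q (Matrix.ext_iff_mulVec.2 fun w => by
      obtain ⟨t, rfl⟩ := hline w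
      rw [mulVec_smul, hs, mat_reflIso, reflectionMatrix_mulVec, refl_apply, QuadraticMap.polar_smul_right,
        polar_self', hz, inv_one, one_mul, smul_eq_mul, mul_one, mul_smul, smul_smul]
      module)
    have hp := (IsReflProd.reflIso d hqd0).mul (isReflProd_emb (IsReflProd.reflIso z hz1))
    rw [hc1] at hge
    have := ((mem_omega_iff h2 hE hp).1 hge).2
    simpa [hqd, hz] using this

end General

variable {n : ℕ}

theorem det_of_mem {g : ↥(Cfsg.isometryGroup F ⇑(oddQ n F))} (hg : g ∈ Cfsg.Omega F ⇑(oddQ n F)) :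
    (mat (oddQ n F) g).det = 1 := ClassSquare.OddO.det_eq_one_of_mem hg

/-- The block of a product along the new pair. -/
theorem blk_cases (x y : Unit ⊕ (Fin n ⊕ Fin n) → F) (c : ↥(Cfsg.isometryGroup F ⇑(oddQ n F))) :
    (∀ i : Fin (n + 1), blkA (mat _ (toExt.symm (OreOrth.lo (oddQ n F) x * emb (oddQ n F) c * OreOrth.up (oddQ n F) y))) i 0 =
      Fin.cases 1 (fun i' => x (.inr (.inl i'))) i) ∧
    ∀ (i : Fin (n + 1)) (j : Fin n),
      blkA (mat _ (toExt.symm (OreOrth.lo (oddQ n F) x * emb (oddQ n F) c * OreOrth.up (oddQ n F) y))) i j.succ =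
        Fin.cases (-QuadraticMap.polar (⇑(oddQ n F)) y (Pi.single (.inr (.inl j)) 1))
          (fun i' => blkA (mat _ c) i' j +
            x (.inr (.inl i')) * -QuadraticMap.polar (⇑(oddQ n F)) y (Pi.single (.inr (.inl j)) 1)) i := by
  set k := OreOrth.lo (oddQ n F) x * emb (oddQ n F) c * OreOrth.up (oddQ n F) y with hk
  have he : ∀ i j : Fin (n + 1), blkA (mat _ (toExt.symm k)) i j =
      (mat _ k *ᵥ Pi.single ((idxEquiv n).symm (.inr (.inl j))) 1) ((idxEquiv n).symm (.inr (.inl i))) := by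
    intro i j
    rw [mulVec_single_one]
    rfl
  have s0 : (idxEquiv n).symm (.inr (.inl 0)) = .inl (.inl ()) := rfl
  have ss : ∀ i : Fin n, (idxEquiv n).symm (.inr (.inl i.succ)) = .inr (.inr (.inl i)) := fun i => by
    rw [Equiv.symm_apply_eq]; rfl
  refine ⟨fun i => ?_, fun i j => ?_⟩
  · have h0 : (Pi.single (.inl (.inl ())) 1 : Ext (Unit ⊕ (Fin n ⊕ Fin n)) → F) = mk 1 0 0 := by
      funext l; rcases l with (l | l) | l <;> simp [mk]
    rw [he, s0, h0, hk, mat_mul, mat_mul, ← mulVec_mulVec, ← mulVec_mulVec, OreOrth.up_mulVec, emb_mulVec, lo_mulVec]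
    refine Fin.cases ?_ (fun i' => ?_) i
    · rw [s0]; simp [mk]
    · rw [ss]; simp [mk]
  · have h1 : (Pi.single (.inr (.inr (.inl j))) 1 : Ext (Unit ⊕ (Fin n ⊕ Fin n)) → F) =
        mk 0 0 (Pi.single (.inr (.inl j)) 1) := by
      funext l; rcases l with (l | l) | l <;> simp [mk, Pi.single_apply]
    rw [he, ss, h1, hk, mat_mul, mat_mul, ← mulVec_mulVec, ← mulVec_mulVec, OreOrth.up_mulVec, emb_mulVec, lo_mulVec]
    refine Fin.cases ?_ (fun i' => ?_) i
    · rw [s0]; simp [mk]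
    · rw [ss]
      simp [mk, mulVec_single_one]
      rw [mul_comm]
      rfl

theorem det_border (A : Matrix (Fin n) (Fin n) F) (q ξ : Fin n → F) (M : Matrix (Fin (n + 1)) (Fin (n + 1)) F)
    (h0 : ∀ i, M i 0 = Fin.cases 1 ξ i) (h1 : ∀ i (j : Fin n), M i j.succ = Fin.cases (q j) (fun i' => A i' j + ξ i' * q j) i) :
    M.det = A.det := by
  let σ : Unit ⊕ Fin n ≃ Fin (n + 1) :=
    { toFun := Sum.elim (fun _ => 0) Fin.succ
      invFun := Fin.cases (Sum.inl ()) Sum.inr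
      left_inv := by rintro (u | i) <;> simp
      right_inv := fun i => by refine Fin.cases ?_ (fun j => ?_) i <;> simp }
  have e : M.submatrix σ σ = fromBlocks 1 (Matrix.of fun _ j => q j) (Matrix.of fun i _ => ξ i)
      (A + (Matrix.of fun (i : Fin n) (_ : Unit) => ξ i) * (Matrix.of fun (_ : Unit) j => q j)) := by
    ext (u | i) (v | j) <;> simp [σ, h0, h1, Matrix.mul_apply]
  rw [← det_submatrix_equiv_self σ M, e, det_fromBlocks_one₁₁, add_sub_cancel_right]

/-- Every element of `Ω` has a conjugate whose block has determinant one and first entry one. -/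
theorem exists_good_conj (h2 : (2 : F) ≠ 0) : ∀ (n : ℕ) (g : ↥(Cfsg.isometryGroup F ⇑(oddQ n F))),
    g ∈ Cfsg.Omega F ⇑(oddQ n F) → ∃ P, (blkA (mat (oddQ n F) (P⁻¹ * g * P))).det = 1 ∧
      ∀ h : 0 < n, blkA (mat (oddQ n F) (P⁻¹ * g * P)) ⟨0, h⟩ ⟨0, h⟩ = 1 := by
  intro n
  induction n with
  | zero => exact fun g _ => ⟨1, Matrix.det_isEmpty, fun h => absurd h (lt_irrefl 0)⟩
  | succ n ih =>
    intro g hg
    by_cases hg1 : g = 1
    · refine ⟨1, ?_⟩
      have e : blkA (mat (oddQ (n + 1) F) (1⁻¹ * g * 1)) = 1 := by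
        rw [hg1, inv_one, one_mul, one_mul, mat_one]
        ext i j
        simp [blkA, Matrix.one_apply]
      rw [e]
      exact ⟨det_one, fun h => one_apply_eq _⟩
    set Q := oddQ n F
    have hQ : (QuadraticMap.polarBilin Q).Nondegenerate := oddQ_nondegenerate h2 n
    set z : Unit ⊕ (Fin n ⊕ Fin n) → F := ClassSquare.OddO.vec 1 0 0
    have hz : Q z = 1 := by rw [ClassSquare.OddO.oddQ_vec]; simp
    have hgE : toExt g ∈ Cfsg.Omega F ⇑(extQ Q) := (mem_omega_toExt g).2 hg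
    have hns : ∀ c : F, mat (extQ Q) (toExt g) ≠ c • 1 := by
      intro c hc
      refine hg1 (toExt.injective ?_)
      rw [map_one]
      refine eq_one_of_scalar (z := mk 0 0 z) (by rw [extQ_mk, hz]; simp) ?_ ?_ hc
      · rw [card_ext]
        simp only [Fintype.card_sum, Fintype.card_unit, Fintype.card_fin]
        exact ⟨n + 1, by omega⟩
      · rw [mat_toExt, det_submatrix_equiv_self]
        exact det_of_mem hg
    obtain ⟨v, hv0, hvs, hvm⟩ := exists_moved ⟨z, by rw [hz]; exact one_ne_zero⟩ hns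
    obtain ⟨P₀, hP₀⟩ := exists_iso_map (extQ_nondegenerate Q hQ) (x := mk 1 0 0) (y := v)
      (fun h => one_ne_zero (congrFun h (.inl (.inl ())))) hv0 (by rw [q_e0, hvs])
    obtain ⟨α, β, x₀, hg1'⟩ := exists_mk (mat (extQ Q) (P₀⁻¹ * toExt g * P₀) *ᵥ mk 1 0 0)
    have homega : ∀ P : ↥(Cfsg.isometryGroup F ⇑(extQ Q)), P⁻¹ * toExt g * P ∈ Cfsg.Omega F ⇑(extQ Q) := by
      intro P
      have hn : (Cfsg.Omega F ⇑(extQ Q)).Normal := Subgroup.commutator_normal _ _
      simpa using hn.conj_mem _ hgE P⁻¹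
    have hgv : mat (extQ Q) (toExt g) *ᵥ v = mat (extQ Q) P₀ *ᵥ mk α β x₀ := by
      rw [← hg1', mulVec_mulVec, ← mat_mul, ← mul_assoc, ← mul_assoc, mul_inv_cancel, one_mul, mat_mul,
        ← mulVec_mulVec, hP₀]
    have hne : ¬(β = 0 ∧ x₀ = 0) := by
      rintro ⟨rfl, rfl⟩
      refine hvm α ?_
      rw [hgv, ← hP₀, ← mulVec_smul]
      simp
    have hsing : α * β + Q x₀ = 0 := by
      have h := quad_mulVec (extQ Q) (P₀⁻¹ * toExt g * P₀) (mk 1 0 0)
      rw [hg1'] at h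
      simpa using h
    -- the normalisation equation
    obtain ⟨w, hw⟩ : ∃ w, α + QuadraticMap.polar (⇑Q) w x₀ - Q w * β = 1 := by
      by_cases hβ : β = 0
      · subst hβ
        obtain ⟨t, ht⟩ : ∃ t, QuadraticMap.polar (⇑Q) x₀ t ≠ 0 := by
          by_contra! h
          exact hne ⟨rfl, hQ.1 x₀ h⟩
        refine ⟨((1 - α) / QuadraticMap.polar (⇑Q) x₀ t) • t, ?_⟩
        rw [QuadraticMap.polar_smul_left, QuadraticMap.polar_comm (⇑Q) t, smul_eq_mul, div_mul_cancel₀ _ ht]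
        ring
      · obtain ⟨t, ht⟩ : ∃ t, Q t = -β⁻¹ := by
          rcases Nat.eq_zero_or_pos n with hn | hn
          · obtain ⟨r, hr⟩ := isSquare_coeff h2 hQ (by
              simp only [Fintype.card_sum, Fintype.card_unit, Fintype.card_fin]; omega) hz (homega P₀) hg1' hβ
            refine ⟨r⁻¹ • z, ?_⟩
            rw [QuadraticMap.map_smul, hz, smul_eq_mul, mul_one, ← mul_inv, ← hr, inv_neg]
          · refine ⟨ClassSquare.OddO.vec 0 (Pi.single ⟨0, hn⟩ (-β⁻¹)) (Pi.single ⟨0, hn⟩ 1), ?_⟩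
            rw [ClassSquare.OddO.oddQ_vec]
            simp
        refine ⟨β⁻¹ • x₀ + t, ?_⟩
        rw [QuadraticMap.polar_add_left, QuadraticMap.polar_smul_left, polar_self', smul_eq_mul,
          QuadraticMap.map_add (⇑Q), QuadraticMap.map_smul, QuadraticMap.polar_smul_left, ht,
          QuadraticMap.polar_comm (⇑Q) t, smul_eq_mul, smul_eq_mul]
        field_simp
        linear_combination hsing
    obtain ⟨g', y, hdec⟩ := exists_decomp_conj hg1' hw
    have hg' : g' ∈ Cfsg.Omega F ⇑Q := by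
      have h3 := homega (P₀ * OreOrth.up Q w)
      rw [show (P₀ * OreOrth.up Q w)⁻¹ * toExt g * (P₀ * OreOrth.up Q w) =
        (OreOrth.up Q w)⁻¹ * (P₀⁻¹ * toExt g * P₀) * OreOrth.up Q w by group, hdec,
        Subgroup.mul_mem_cancel_right _ (up_mem' h2 hQ _), Subgroup.mul_mem_cancel_left _ (lo_mem h2 hQ _)] at h3
      exact (emb_mem_iff h2 hQ g').1 h3
    obtain ⟨P', hP', -⟩ := ih g' hg'
    set c := P'⁻¹ * g' * P' with hc
    set x := x₀ - β • w
    refine ⟨toExt.symm (P₀ * OreOrth.up Q w * emb Q P'), ?_⟩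
    have key : (toExt.symm (P₀ * OreOrth.up Q w * emb Q P'))⁻¹ * g * toExt.symm (P₀ * OreOrth.up Q w * emb Q P') =
        toExt.symm (OreOrth.lo Q (mat Q P'⁻¹ *ᵥ x) * emb Q c * OreOrth.up Q (mat Q P'⁻¹ *ᵥ y)) := by
      refine toExt.injective ?_
      simp only [map_mul, map_inv, MulEquiv.apply_symm_apply]
      calc (P₀ * OreOrth.up Q w * emb Q P')⁻¹ * toExt g * (P₀ * OreOrth.up Q w * emb Q P')
          = emb Q P'⁻¹ * ((OreOrth.up Q w)⁻¹ * (P₀⁻¹ * toExt g * P₀) * OreOrth.up Q w) * emb Q P' := by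
            rw [map_inv]; group
        _ = (emb Q P'⁻¹ * OreOrth.lo Q x) * emb Q g' * (OreOrth.up Q y * emb Q P') := by rw [hdec]; group
        _ = OreOrth.lo Q (mat Q P'⁻¹ *ᵥ x) * emb Q P'⁻¹ * emb Q g' * (emb Q P' * OreOrth.up Q (mat Q P'⁻¹ *ᵥ y)) := by
            rw [emb_conj_lo, up_emb]
        _ = _ := by rw [hc, map_mul, map_mul]; group
    rw [key]
    obtain ⟨h0, h1⟩ := blk_cases (mat Q P'⁻¹ *ᵥ x) (mat Q P'⁻¹ *ᵥ y) c
    refine ⟨(det_border _ _ _ _ h0 h1).trans hP', fun h => ?_⟩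
    exact (h0 0).trans (Fin.cases_zero)

end CfsgLib.OreOmega
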