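import Cfsg.Agent.OreOmega.Criterion
import Cfsg.Agent.OreOmega.Recursion
import Cfsg.Agent.OreGL.Main

/-!
# Ore's conjecture for `Ω_{2n+1}(q)`
-/

set_option autoImplicit false
set_option linter.unusedSectionVars false

namespace CfsgLib.OreOmega

open Matrix CfsgLib.Spinor CfsgLib.StdForms
open CfsgLib.ClassSquare.OddO (blkA)

variable {F : Type*} [Field F] [Fintype F]

/-- Every element of `Ω_{2n+1}(q)` is a commutator, `q` odd and `n ≥ 3`. -/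
theorem isComm_oddQ (hodd : Odd (Fintype.card F)) {n : ℕ} (hn : 3 ≤ n)
    (g : ↥(Cfsg.Omega F ⇑(oddQ n F))) :
    ∃ a b : ↥(Cfsg.Omega F ⇑(oddQ n F)), g = a * b * a⁻¹ * b⁻¹ := by
  have h2 : (2 : F) ≠ 0 := by
    intro h
    haveI : CharP F 2 := CharTwo.of_one_ne_zero_of_two_eq_zero one_ne_zero h
    exact (Nat.not_even_iff_odd.2 hodd) (Nat.even_iff.2 (FiniteField.even_card_of_char_two (ringChar.eq F 2)))
  obtain ⟨P, hdet, h00⟩ := exists_good_conj h2 n g.1 g.2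
  have hnor : (Cfsg.Omega F ⇑(oddQ n F)).Normal := Subgroup.commutator_normal _ _
  let g' : ↥(Cfsg.Omega F ⇑(oddQ n F)) := ⟨P⁻¹ * g.1 * P, by simpa using hnor.conj_mem _ g.2 P⁻¹⟩
  obtain ⟨a, b, hab⟩ := isComm_of_blk h2 hn g' hdet (OreGL.factors_main hodd hn _ hdet (by
    by_cases h : ∀ c : F, blkA (mat (oddQ n F) g'.1) ≠ c • 1
    · exact Or.inr h
    · push Not at h
      obtain ⟨c, hc⟩ := h
      have h0 := h00 (by omega)
      show blkA (mat (oddQ n F) g'.1) = 1 ∨ _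
      rw [show blkA (mat (oddQ n F) (P⁻¹ * g.1 * P)) = blkA (mat (oddQ n F) g'.1) from rfl, hc,
        Matrix.smul_apply, one_apply_eq, smul_eq_mul, mul_one] at h0
      exact Or.inl (by rw [hc, h0, one_smul])))
  refine ⟨⟨P * a.1 * P⁻¹, hnor.conj_mem _ a.2 P⟩, ⟨P * b.1 * P⁻¹, hnor.conj_mem _ b.2 P⟩, Subtype.ext ?_⟩
  have hab' : P⁻¹ * g.1 * P = a.1 * b.1 * a.1⁻¹ * b.1⁻¹ := congrArg Subtype.val hab
  show g.1 = P * a.1 * P⁻¹ * (P * b.1 * P⁻¹) * (P * a.1 * P⁻¹)⁻¹ * (P * b.1 * P⁻¹)⁻¹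
  calc g.1 = P * (P⁻¹ * g.1 * P) * P⁻¹ := by group
    _ = _ := by rw [hab']; group

end CfsgLib.OreOmega
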