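import Cfsg.Agent.OreOrth.Step
import Cfsg.Agent.OreOrth.EmbRefl
import Cfsg.Agent.OreOmega.Basic

/-!
# `O_{2n+3}` as the orthogonal group of a plane on top of `O_{2n+1}`
-/

set_option autoImplicit false
set_option linter.unusedSectionVars false
set_option linter.unusedSimpArgs false

namespace CfsgLib.OreOmega

open Matrix CfsgLib.Spinor CfsgLib.StdForms CfsgLib.OreOrth

variable {F : Type*} [Field F] [Fintype F] {n : ℕ}

/-- The coordinates of the new pair are the first ones. -/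
def idxEquiv (n : ℕ) : Ext (Unit ⊕ (Fin n ⊕ Fin n)) ≃ Unit ⊕ (Fin (n + 1) ⊕ Fin (n + 1)) where
  toFun
    | .inl (.inl _) => .inr (.inl 0)
    | .inl (.inr _) => .inr (.inr 0)
    | .inr (.inl u) => .inl u
    | .inr (.inr (.inl i)) => .inr (.inl i.succ)
    | .inr (.inr (.inr i)) => .inr (.inr i.succ)
  invFun
    | .inl u => .inr (.inl u)
    | .inr (.inl i) => Fin.cases (.inl (.inl ())) (fun j => .inr (.inr (.inl j))) i
    | .inr (.inr i) => Fin.cases (.inl (.inr ())) (fun j => .inr (.inr (.inr j))) i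
  left_inv := by rintro ((u | u) | u | i | i) <;> simp
  right_inv := by
    rintro (u | i | i)
    · rfl
    · refine Fin.cases ?_ (fun j => ?_) i <;> simp
    · refine Fin.cases ?_ (fun j => ?_) i <;> simp

@[simp] theorem idxEquiv_e : idxEquiv n (.inl (.inl ())) = .inr (.inl 0) := rfl
@[simp] theorem idxEquiv_x (i : Fin n) : idxEquiv n (.inr (.inr (.inl i))) = .inr (.inl i.succ) := rfl

theorem extQ_comp (v : Unit ⊕ (Fin (n + 1) ⊕ Fin (n + 1)) → F) :
    extQ (oddQ n F) (v ∘ idxEquiv n) = oddQ (n + 1) F v := by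
  rw [← mk_eta (v ∘ idxEquiv n), extQ_mk, oddQ_apply, oddQ_apply]
  simp only [Cfsg.quadFormOdd, Fin.sum_univ_succ, Function.comp_apply, idxEquiv, Equiv.coe_fn_mk]
  ring

theorem submatrix_mulVec' (M : Matrix (Unit ⊕ (Fin (n + 1) ⊕ Fin (n + 1))) (Unit ⊕ (Fin (n + 1) ⊕ Fin (n + 1))) F)
    (v : Unit ⊕ (Fin (n + 1) ⊕ Fin (n + 1)) → F) :
    M.submatrix (idxEquiv n) (idxEquiv n) *ᵥ (v ∘ idxEquiv n) = (M *ᵥ v) ∘ idxEquiv n := by
  funext i
  simp only [mulVec, dotProduct, submatrix_apply, Function.comp_apply]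
  exact Equiv.sum_comp (idxEquiv n) fun j => M (idxEquiv n i) j * v j

/-- The transport. -/
noncomputable def toExt :
    ↥(Cfsg.isometryGroup F ⇑(oddQ (n + 1) F)) ≃* ↥(Cfsg.isometryGroup F ⇑(extQ (oddQ n F))) where
  toFun g := ⟨⟨(mat _ g).submatrix (idxEquiv n) (idxEquiv n), (mat _ g⁻¹).submatrix (idxEquiv n) (idxEquiv n),
      by rw [submatrix_mul_equiv, ← mat_mul, mul_inv_cancel, mat_one, submatrix_one_equiv],
      by rw [submatrix_mul_equiv, ← mat_mul, inv_mul_cancel, mat_one, submatrix_one_equiv]⟩, fun w _ => by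
    show extQ (oddQ n F) ((mat _ g).submatrix (idxEquiv n) (idxEquiv n) *ᵥ w) = extQ (oddQ n F) w
    obtain ⟨v, rfl⟩ : ∃ v, w = v ∘ idxEquiv n := ⟨w ∘ (idxEquiv n).symm, by funext i; simp⟩
    rw [submatrix_mulVec', extQ_comp, extQ_comp, quad_mulVec]⟩
  invFun h := ⟨⟨(mat _ h).submatrix (idxEquiv n).symm (idxEquiv n).symm,
      (mat _ h⁻¹).submatrix (idxEquiv n).symm (idxEquiv n).symm,
      by rw [submatrix_mul_equiv, ← mat_mul, mul_inv_cancel, mat_one, submatrix_one_equiv],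
      by rw [submatrix_mul_equiv, ← mat_mul, inv_mul_cancel, mat_one, submatrix_one_equiv]⟩, fun v _ => by
    show oddQ (n + 1) F ((mat _ h).submatrix (idxEquiv n).symm (idxEquiv n).symm *ᵥ v) = oddQ (n + 1) F v
    rw [← extQ_comp, ← extQ_comp, ← submatrix_mulVec', submatrix_submatrix]
    simp only [Equiv.symm_comp_self, submatrix_id_id]
    exact quad_mulVec _ h _⟩
  left_inv g := mat_ext _ (by
    show ((mat _ g).submatrix (idxEquiv n) (idxEquiv n)).submatrix (idxEquiv n).symm (idxEquiv n).symm = _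
    rw [submatrix_submatrix]
    simp)
  right_inv h := mat_ext _ (by
    show ((mat _ h).submatrix (idxEquiv n).symm (idxEquiv n).symm).submatrix (idxEquiv n) (idxEquiv n) = _
    rw [submatrix_submatrix]
    simp)
  map_mul' g h := mat_ext _ (by
    show (mat _ (g * h)).submatrix (idxEquiv n) (idxEquiv n) = _
    rw [mat_mul, mat_mul, ← submatrix_mul_equiv _ _ _ (idxEquiv n)])

theorem mat_toExt (g : ↥(Cfsg.isometryGroup F ⇑(oddQ (n + 1) F))) :
    mat _ (toExt g) = (mat _ g).submatrix (idxEquiv n) (idxEquiv n) := rfl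

theorem mem_omega_toExt (g : ↥(Cfsg.isometryGroup F ⇑(oddQ (n + 1) F))) :
    toExt g ∈ Cfsg.Omega F ⇑(extQ (oddQ n F)) ↔ g ∈ Cfsg.Omega F ⇑(oddQ (n + 1) F) := by
  have h : (Cfsg.Omega F ⇑(oddQ (n + 1) F)).map (toExt (F := F) (n := n)).toMonoidHom =
      Cfsg.Omega F ⇑(extQ (oddQ n F)) := by
    show (commutator _).map _ = commutator _
    rw [commutator_def, commutator_def, Subgroup.map_commutator,
      Subgroup.map_top_of_surjective _ (toExt (F := F) (n := n)).surjective]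
  rw [← h]
  exact Subgroup.mem_map_iff_mem (toExt (F := F) (n := n)).injective

end CfsgLib.OreOmega
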